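import Mathlib
import Cfsg.Agent.Lib.Helper37.UnitaryGen
import Cfsg.Agent.Lib.Helper37.UnitarySimple

/-!
# Project SUMD (helper43): minimal degree of `SU_n(q)` (S2334, S2335) — definitions

`σ` an involution of the finite field `F` (`|F| = q²`, `σ x = x ^ q`), `hf σ` the standard hermitian form on
`Fin n → F` (helper37's library `Lib/Helper37/UnitaryGen`).

* `SUg σ n` : the special unitary group as a subgroup of `GL (Fin n) F`;
* `smat g` : the matrix of `g : SUg σ n`; `mkS` : an element of `SUg` from a matrix;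
* `tvS`, `siegS` : unitary transvections and Siegel elements as elements of `SUg σ n`;
* `Zsub σ v hv` : the transvection group `Z_v = {tv v c | c + σ c = 0}` of an isotropic vector `v`;
* `Qsub σ hσ2 v hv` : the Siegel group `Q_v = {sieg v u β}` (Heisenberg group of order `q^(2n-3)`);
* `A2 σ v v'` : the group generated by all `Z_z`, `z ∈ ⟨v, v'⟩` (for `v ⟂ v'` isotropic);
* `fixedSp ρ H`, `wtSp ρ H χ` : fixed space / weight space of a subgroup `H` in a representation `ρ`.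
-/

set_option autoImplicit false

namespace Cfsg.Agent.Lib.Helper43.SUMD

open Matrix Module Cfsg.Agent.S0837 Cfsg.Agent.S0781 Cfsg.Agent.S2644 Cfsg.Agent.Lib.Helper37

section groups
variable {F : Type*} [Field F] (σ : F →+* F) (n : ℕ)

/-- `SU_n` inside `GL_n`: the unitary matrices (for `hf σ`) of determinant one. -/
def SUg : Subgroup (GL (Fin n) F) where
  carrier := {g | g ∈ UG σ n ∧ (g : Matrix (Fin n) (Fin n) F).det = 1}
  mul_mem' := by
    rintro a b ⟨ha, ha'⟩ ⟨hb, hb'⟩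
    refine ⟨Subgroup.mul_mem _ ha hb, ?_⟩
    rw [Units.val_mul, Matrix.det_mul, ha', hb', one_mul]
  one_mem' := ⟨Subgroup.one_mem _, by rw [Units.val_one, Matrix.det_one]⟩
  inv_mem' := by
    rintro a ⟨ha, ha'⟩
    refine ⟨Subgroup.inv_mem _ ha, ?_⟩
    have h1 : ((a⁻¹ : GL (Fin n) F) : Matrix (Fin n) (Fin n) F).det *
        (a : Matrix (Fin n) (Fin n) F).det = 1 := by
      rw [← Matrix.det_mul, ← Units.val_mul, inv_mul_cancel, Units.val_one, Matrix.det_one]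
    rwa [ha', mul_one] at h1

variable {σ n}

/-- the matrix of an element of `SUg` -/
def smat (g : ↥(SUg σ n)) : Matrix (Fin n) (Fin n) F := ((g : GL (Fin n) F) : Matrix (Fin n) (Fin n) F)

theorem smat_mul (g h : ↥(SUg σ n)) : smat (g * h) = smat g * smat h := by
  unfold smat; rw [Subgroup.coe_mul, Units.val_mul]

theorem smat_one : smat (1 : ↥(SUg σ n)) = 1 := by
  unfold smat; rw [Subgroup.coe_one, Units.val_one]

theorem smat_inv_mul (g : ↥(SUg σ n)) : smat g⁻¹ * smat g = 1 := by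
  rw [← smat_mul, inv_mul_cancel, smat_one]

theorem smat_mul_inv (g : ↥(SUg σ n)) : smat g * smat g⁻¹ = 1 := by
  rw [← smat_mul, mul_inv_cancel, smat_one]

theorem smat_injective : Function.Injective (smat : ↥(SUg σ n) → Matrix (Fin n) (Fin n) F) := by
  intro a b hab
  apply Subtype.ext
  apply Units.ext
  exact hab

theorem smat_preserves (g : ↥(SUg σ n)) (x y : Fin n → F) :
    hf σ (smat g *ᵥ x) (smat g *ᵥ y) = hf σ x y := g.2.1 x y

theorem smat_det (g : ↥(SUg σ n)) : (smat g).det = 1 := g.2.2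

/-- an element of `SUg` from a unitary matrix of determinant one -/
def mkS (M : Matrix (Fin n) (Fin n) F) (hdet : M.det = 1)
    (hM : ∀ x y, hf σ (M *ᵥ x) (M *ᵥ y) = hf σ x y) : ↥(SUg σ n) :=
  ⟨Matrix.GeneralLinearGroup.mkOfDetNeZero M (by rw [hdet]; exact one_ne_zero), hM, hdet⟩

@[simp] theorem smat_mkS (M : Matrix (Fin n) (Fin n) F) (hdet : M.det = 1)
    (hM : ∀ x y, hf σ (M *ᵥ x) (M *ᵥ y) = hf σ x y) : smat (mkS M hdet hM) = M := rfl

theorem TG_le_SUg (hσ2 : ∀ a, σ (σ a) = a) : TG σ n ≤ SUg σ n := fun t ht =>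
  ⟨TG_le_UG σ hσ2 ht, det_of_mem_TG σ t ht⟩

variable (σ)

/-- the unitary transvection `x ↦ x + c h(x,v) v` as an element of `SUg` -/
def tvS (hσ2 : ∀ a, σ (σ a) = a) (v : Fin n → F) (c : F) (hv : hf σ v v = 0) (hc : c + σ c = 0) :
    ↥(SUg σ n) :=
  mkS (tv σ v c) (by rw [tv_det, hv, mul_zero, add_zero]) (fun x y => by
    rw [hf_tv σ hσ2, hc, hv]; ring)

@[simp] theorem smat_tvS (hσ2 : ∀ a, σ (σ a) = a) (v : Fin n → F) (c : F) (hv : hf σ v v = 0)
    (hc : c + σ c = 0) : smat (tvS σ hσ2 v c hv hc) = tv σ v c := rfl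

/-- the Siegel element `x ↦ x + h(x,v)(u + βv) - h(x,u) v` as an element of `SUg` -/
def siegS (hσ2 : ∀ a, σ (σ a) = a) (v u : Fin n → F) (β : F) (hv : hf σ v v = 0)
    (hu : hf σ u v = 0) (hβ : β + σ β + hf σ u u = 0) : ↥(SUg σ n) :=
  mkS (sieg σ v u β) (sieg_det σ hσ2 v u β hv hu) (sieg_preserves σ hσ2 v u β hv hu hβ)

@[simp] theorem smat_siegS (hσ2 : ∀ a, σ (σ a) = a) (v u : Fin n → F) (β : F) (hv : hf σ v v = 0)
    (hu : hf σ u v = 0) (hβ : β + σ β + hf σ u u = 0) :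
    smat (siegS σ hσ2 v u β hv hu hβ) = sieg σ v u β := rfl

/-- `Z_v`: the transvection group of the isotropic vector `v` -/
def Zsub (v : Fin n → F) (hv : hf σ v v = 0) : Subgroup ↥(SUg σ n) where
  carrier := {g | ∃ c : F, c + σ c = 0 ∧ smat g = tv σ v c}
  one_mem' := ⟨0, by simp, by
    rw [smat_one]
    show (1 : Matrix (Fin n) (Fin n) F) = sieg σ v 0 0
    rw [sieg_zero]⟩
  mul_mem' := by
    rintro a b ⟨c, hc, ha⟩ ⟨c', hc', hb⟩
    refine ⟨c + c', ?_, ?_⟩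
    · rw [map_add]; linear_combination hc + hc'
    · rw [smat_mul, ha, hb, tv_mul_tv σ v hv]
  inv_mem' := by
    rintro a ⟨c, hc, ha⟩
    refine ⟨-c, ?_, ?_⟩
    · rw [map_neg]; linear_combination (-1 : F) * hc
    · have h1 : smat a⁻¹ * smat a = 1 := smat_inv_mul a
      have h2 : tv σ v c * tv σ v (-c) = 1 := tv_mul_tv_neg σ v c hv
      calc smat a⁻¹ = smat a⁻¹ * (tv σ v c * tv σ v (-c)) := by rw [h2, Matrix.mul_one]
        _ = (smat a⁻¹ * smat a) * tv σ v (-c) := by rw [ha, Matrix.mul_assoc]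
        _ = tv σ v (-c) := by rw [h1, Matrix.one_mul]

theorem mem_Zsub (v : Fin n → F) (hv : hf σ v v = 0) (g : ↥(SUg σ n)) :
    g ∈ Zsub σ v hv ↔ ∃ c : F, c + σ c = 0 ∧ smat g = tv σ v c := Iff.rfl

theorem tvS_mem_Zsub (hσ2 : ∀ a, σ (σ a) = a) (v : Fin n → F) (c : F) (hv : hf σ v v = 0)
    (hc : c + σ c = 0) : tvS σ hσ2 v c hv hc ∈ Zsub σ v hv := ⟨c, hc, rfl⟩

/-- `Q_v`: the group of Siegel elements with centre `v` -/
def Qsub (hσ2 : ∀ a, σ (σ a) = a) (v : Fin n → F) (hv : hf σ v v = 0) : Subgroup ↥(SUg σ n) where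
  carrier := {g | ∃ (u : Fin n → F) (β : F), hf σ u v = 0 ∧ β + σ β + hf σ u u = 0 ∧
    smat g = sieg σ v u β}
  one_mem' := ⟨0, 0, hf_zero_left σ v, by simp [hf_zero_left], by rw [smat_one, sieg_zero]⟩
  mul_mem' := by
    rintro a b ⟨u₁, β₁, hu₁, hβ₁, ha⟩ ⟨u₂, β₂, hu₂, hβ₂, hb⟩
    refine ⟨u₁ + u₂, β₁ + β₂ - hf σ u₂ u₁, ?_, ?_, ?_⟩
    · rw [hf_add_left, hu₁, hu₂, add_zero]
    · have h21 : σ (hf σ u₂ u₁) = hf σ u₁ u₂ := (hf_symm σ hσ2 u₁ u₂).symm
      simp only [hf_add_left, hf_add_right, map_add, map_sub, h21]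
      linear_combination hβ₁ + hβ₂
    · rw [smat_mul, ha, hb, sieg_mul σ hσ2 v u₁ u₂ β₁ β₂ hv hu₁ hu₂]
  inv_mem' := by
    rintro a ⟨u, β, hu, hβ, ha⟩
    have hneg : hf σ (-u) v = 0 := by rw [hf_neg_left, hu, neg_zero]
    refine ⟨-u, σ β, hneg, ?_, ?_⟩
    · rw [hσ2, hf_neg_left]
      have : hf σ u (-u) = -hf σ u u := by
        rw [hf_symm σ hσ2, hf_neg_left, map_neg, ← hf_symm σ hσ2]
      rw [this]
      linear_combination hβ
    · have h1 : smat a⁻¹ * smat a = 1 := smat_inv_mul a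
      have h2 : sieg σ v u β * sieg σ v (-u) (σ β) = 1 := sieg_mul_inv σ hσ2 v u β hv hu hβ
      calc smat a⁻¹ = smat a⁻¹ * (sieg σ v u β * sieg σ v (-u) (σ β)) := by
            rw [h2, Matrix.mul_one]
        _ = (smat a⁻¹ * smat a) * sieg σ v (-u) (σ β) := by rw [ha, Matrix.mul_assoc]
        _ = sieg σ v (-u) (σ β) := by rw [h1, Matrix.one_mul]

theorem mem_Qsub (hσ2 : ∀ a, σ (σ a) = a) (v : Fin n → F) (hv : hf σ v v = 0) (g : ↥(SUg σ n)) :
    g ∈ Qsub σ hσ2 v hv ↔ ∃ (u : Fin n → F) (β : F), hf σ u v = 0 ∧ β + σ β + hf σ u u = 0 ∧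
      smat g = sieg σ v u β := Iff.rfl

theorem Zsub_le_Qsub (hσ2 : ∀ a, σ (σ a) = a) (v : Fin n → F) (hv : hf σ v v = 0) :
    Zsub σ v hv ≤ Qsub σ hσ2 v hv := by
  rintro g ⟨c, hc, hg⟩
  exact ⟨0, c, hf_zero_left σ v, by rw [hf_zero_left, add_zero]; exact hc, hg⟩

/-- `A₂`: the group generated by the transvection groups `Z_z`, `z ∈ ⟨v, v'⟩` -/
def A2 (v v' : Fin n → F) : Subgroup ↥(SUg σ n) :=
  Subgroup.closure {g | ∃ a b c : F, c + σ c = 0 ∧ smat g = tv σ (a • v + b • v') c}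

end groups

section rep
variable {G : Type*} [Group G] {V : Type*} [AddCommGroup V] [Module ℂ V]

/-- the fixed space `C_V(H)` of a subgroup `H` -/
def fixedSp (ρ : Representation ℂ G V) (H : Subgroup G) : Submodule ℂ V where
  carrier := {v | ∀ h ∈ H, ρ h v = v}
  add_mem' := by
    intro a b ha hb h hh
    rw [map_add, ha h hh, hb h hh]
  zero_mem' := by
    intro h _
    rw [map_zero]
  smul_mem' := by
    intro c v hv h hh
    rw [map_smul, hv h hh]

theorem mem_fixedSp (ρ : Representation ℂ G V) (H : Subgroup G) (v : V) :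
    v ∈ fixedSp ρ H ↔ ∀ h ∈ H, ρ h v = v := Iff.rfl

/-- the weight space of a subgroup `H` for a linear character `χ` of `H` -/
def wtSp (ρ : Representation ℂ G V) (H : Subgroup G) (χ : ↥H →* ℂˣ) : Submodule ℂ V where
  carrier := {v | ∀ h : ↥H, ρ (h : G) v = ((χ h : ℂˣ) : ℂ) • v}
  add_mem' := by
    intro a b ha hb h
    rw [map_add, ha h, hb h, smul_add]
  zero_mem' := by
    intro h
    rw [map_zero, smul_zero]
  smul_mem' := by
    intro c v hv h
    rw [map_smul, hv h, smul_comm]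

theorem mem_wtSp (ρ : Representation ℂ G V) (H : Subgroup G) (χ : ↥H →* ℂˣ) (v : V) :
    v ∈ wtSp ρ H χ ↔ ∀ h : ↥H, ρ (h : G) v = ((χ h : ℂˣ) : ℂ) • v := Iff.rfl

end rep

end Cfsg.Agent.Lib.Helper43.SUMD
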