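import Mathlib
import Cfsg.Agent.Lib.Helper43.SUMD.Defs

/-!
# Project SUMD (helper43): basic lemmas — fixed spaces, frame embedding `SU_m → SU_n`
-/

set_option autoImplicit false

namespace Cfsg.Agent.Lib.Helper43.SUMD

open Matrix Module Cfsg.Agent.S0837 Cfsg.Agent.S0781 Cfsg.Agent.S2644 Cfsg.Agent.Lib.Helper37

section rep
variable {G : Type*} [Group G] {V : Type*} [AddCommGroup V] [Module ℂ V]

theorem fixedSp_mono (ρ : Representation ℂ G V) {H K : Subgroup G} (h : H ≤ K) :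
    fixedSp ρ K ≤ fixedSp ρ H := fun _ hv g hg => hv g (h hg)

/-- `ρ g` maps `C_V(H)` into `C_V(g H g⁻¹)` -/
theorem map_mem_fixedSp_conj (ρ : Representation ℂ G V) (H : Subgroup G) (g : G) {v : V}
    (hv : v ∈ fixedSp ρ H) : ρ g v ∈ fixedSp ρ (H.map (MulAut.conj g).toMonoidHom) := by
  rintro _ ⟨h, hh, rfl⟩
  have e : (MulAut.conj g).toMonoidHom h * g = g * h := by
    simp [MulAut.conj_apply]
  calc ρ ((MulAut.conj g).toMonoidHom h) (ρ g v)
      = ρ ((MulAut.conj g).toMonoidHom h * g) v := by rw [map_mul]; rfl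
    _ = ρ (g * h) v := by rw [e]
    _ = ρ g (ρ h v) := by rw [map_mul]; rfl
    _ = ρ g v := by rw [hv h hh]

/-- `C_V(g H g⁻¹) = ρ g (C_V(H))` -/
theorem fixedSp_conj (ρ : Representation ℂ G V) (H : Subgroup G) (g : G) :
    fixedSp ρ (H.map (MulAut.conj g).toMonoidHom) = (fixedSp ρ H).map (ρ g) := by
  apply le_antisymm
  · intro v hv
    refine ⟨ρ g⁻¹ v, ?_, ?_⟩
    · have h1 := map_mem_fixedSp_conj ρ (H.map (MulAut.conj g).toMonoidHom) g⁻¹ hv
      have h2 : (H.map (MulAut.conj g).toMonoidHom).map (MulAut.conj g⁻¹).toMonoidHom = H := by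
        ext x
        simp only [Subgroup.mem_map, MulEquiv.coe_toMonoidHom, MulAut.conj_apply]
        constructor
        · rintro ⟨_, ⟨y, hy, rfl⟩, rfl⟩
          have : g⁻¹ * (g * y * g⁻¹) * g⁻¹⁻¹ = y := by group
          rw [this]; exact hy
        · intro hx
          exact ⟨g * x * g⁻¹, ⟨x, hx, rfl⟩, by group⟩
      rwa [h2] at h1
    · show ρ g (ρ g⁻¹ v) = v
      rw [← Module.End.mul_apply, ← map_mul, mul_inv_cancel, map_one]
      rfl
  · rintro _ ⟨v, hv, rfl⟩
    exact map_mem_fixedSp_conj ρ H g hv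

theorem finrank_fixedSp_conj [FiniteDimensional ℂ V] (ρ : Representation ℂ G V) (H : Subgroup G)
    (g : G) : finrank ℂ (fixedSp ρ (H.map (MulAut.conj g).toMonoidHom)) = finrank ℂ (fixedSp ρ H) := by
  rw [fixedSp_conj]
  have hinj : Function.Injective (ρ g) := by
    intro a b hab
    have := congrArg (ρ g⁻¹) hab
    simpa [← Module.End.mul_apply, ← map_mul] using this
  exact LinearEquiv.finrank_eq (Submodule.equivMapOfInjective (ρ g) hinj (fixedSp ρ H)).symm

/-- the fixed space of a closure -/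
theorem mem_fixedSp_closure (ρ : Representation ℂ G V) (S : Set G) (v : V) :
    v ∈ fixedSp ρ (Subgroup.closure S) ↔ ∀ s ∈ S, ρ s v = v := by
  constructor
  · intro hv s hs
    exact hv s (Subgroup.subset_closure hs)
  · intro hv g hg
    induction hg using Subgroup.closure_induction with
    | mem x hx => exact hv x hx
    | one => rw [map_one]; rfl
    | mul x y _ _ hx hy => rw [map_mul, Module.End.mul_apply, hy, hx]
    | inv x _ hx =>
      have := congrArg (ρ x⁻¹) hx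
      rw [← Module.End.mul_apply, ← map_mul, inv_mul_cancel, map_one] at this
      exact this.symm

theorem fixedSp_eq_top_iff (ρ : Representation ℂ G V) (H : Subgroup G) :
    fixedSp ρ H = ⊤ ↔ ∀ h ∈ H, ρ h = 1 := by
  constructor
  · intro h g hg
    apply LinearMap.ext
    intro v
    have : v ∈ fixedSp ρ H := by rw [h]; trivial
    exact this g hg
  · intro h
    rw [eq_top_iff]
    intro v _ g hg
    rw [h g hg]; rfl

end rep

section emb
variable {F : Type*} [Field F] (σ : F →+* F) {n k m : ℕ} (P : Matrix (Fin n) (Fin k ⊕ Fin m) F)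

/-- the frame embedding `SU_m → SU_n`, `g ↦ P diag(1, g) P^*` -/
def embS (hσ2 : ∀ a, σ (σ a) = a) (h1 : hs σ P * P = 1) (h2 : P * hs σ P = 1) :
    ↥(SUg σ m) →* ↥(SUg σ n) where
  toFun g := ⟨psiGL σ P h1 h2 (1, (g : GL (Fin m) F)), by
    constructor
    · intro x y
      rw [psiGL_coe]
      have hD : hs σ (fromBlocks (1 : Matrix (Fin k) (Fin k) F) 0 0 (smat g)) *
          fromBlocks (1 : Matrix (Fin k) (Fin k) F) 0 0 (smat g) = 1 := by
        rw [hs_fromBlocks, hs_zero, hs_zero, hs_one, fromBlocks_multiply]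
        simp only [Matrix.mul_zero, Matrix.zero_mul, add_zero, zero_add, Matrix.one_mul]
        rw [hs_mul_self_of_preserves σ (smat g) (smat_preserves g), fromBlocks_one]
      have hM : hs σ (P * fromBlocks (1 : Matrix (Fin k) (Fin k) F) 0 0 (smat g) * hs σ P) *
          (P * fromBlocks (1 : Matrix (Fin k) (Fin k) F) 0 0 (smat g) * hs σ P) = 1 := by
        rw [hs_mul, hs_mul, hs_hs σ hσ2]
        calc P * (hs σ (fromBlocks (1 : Matrix (Fin k) (Fin k) F) 0 0 (smat g)) * hs σ P) *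
              (P * fromBlocks (1 : Matrix (Fin k) (Fin k) F) 0 0 (smat g) * hs σ P)
            = P * (hs σ (fromBlocks (1 : Matrix (Fin k) (Fin k) F) 0 0 (smat g)) * (hs σ P * P) *
                fromBlocks (1 : Matrix (Fin k) (Fin k) F) 0 0 (smat g)) * hs σ P := by
              simp only [Matrix.mul_assoc]
          _ = 1 := by rw [h1, Matrix.mul_one, hD, Matrix.mul_one, h2]
      exact preserves_of_hs_mul σ hσ2 _ hM x y
    · rw [psiGL_coe]
      show (P * fromBlocks (1 : Matrix (Fin k) (Fin k) F) 0 0 (smat g) * hs σ P).det = 1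
      rw [Matrix.det_conj_of_mul_eq_one h2 h1, Matrix.det_fromBlocks_zero₂₁, Matrix.det_one,
        one_mul, smat_det]⟩
  map_one' := by
    apply Subtype.ext
    show psiGL σ P h1 h2 (1, ((1 : ↥(SUg σ m)) : GL (Fin m) F)) = 1
    rw [Subgroup.coe_one]
    exact map_one (psiGL σ P h1 h2)
  map_mul' a b := by
    apply Subtype.ext
    show psiGL σ P h1 h2 (1, ((a * b : ↥(SUg σ m)) : GL (Fin m) F)) =
      psiGL σ P h1 h2 (1, (a : GL (Fin m) F)) * psiGL σ P h1 h2 (1, (b : GL (Fin m) F))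
    rw [← map_mul, Subgroup.coe_mul]
    congr 1
    ext <;> simp

theorem smat_embS (hσ2 : ∀ a, σ (σ a) = a) (h1 : hs σ P * P = 1) (h2 : P * hs σ P = 1)
    (g : ↥(SUg σ m)) :
    smat (embS σ P hσ2 h1 h2 g) =
      P * fromBlocks (1 : Matrix (Fin k) (Fin k) F) 0 0 (smat g) * hs σ P := rfl

/-- the embedding of a transvection is a transvection -/
theorem embS_tvS (hσ2 : ∀ a, σ (σ a) = a) (h1 : hs σ P * P = 1) (h2 : P * hs σ P = 1)
    (z : Fin m → F) (c : F) (hz : hf σ z z = 0) (hc : c + σ c = 0) :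
    smat (embS σ P hσ2 h1 h2 (tvS σ hσ2 z c hz hc)) =
      tv σ (P *ᵥ (Sum.elim (0 : Fin k → F) z)) c := by
  rw [smat_embS, smat_tvS, psi_tv σ P h2]

/-- the embedded group fixes the vectors `P (y ⊕ 0)` -/
theorem embS_mulVec_inl (hσ2 : ∀ a, σ (σ a) = a) (h1 : hs σ P * P = 1) (h2 : P * hs σ P = 1)
    (g : ↥(SUg σ m)) (y : Fin k → F) :
    smat (embS σ P hσ2 h1 h2 g) *ᵥ (P *ᵥ (Sum.elim y (0 : Fin m → F))) =
      P *ᵥ (Sum.elim y (0 : Fin m → F)) := by
  rw [smat_embS, mulVec_mulVec]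
  have : P * fromBlocks (1 : Matrix (Fin k) (Fin k) F) 0 0 (smat g) * hs σ P * P =
      P * fromBlocks (1 : Matrix (Fin k) (Fin k) F) 0 0 (smat g) := by
    rw [Matrix.mul_assoc, h1, Matrix.mul_one]
  rw [this, ← mulVec_mulVec, fromBlocks_mulVec]
  congr 1
  ext i
  rcases i with i | i <;> simp

/-- the form on `P`-coordinates -/
theorem hf_P_mulVec (hσ2 : ∀ a, σ (σ a) = a) (h1 : hs σ P * P = 1) (x y : Fin k ⊕ Fin m → F) :
    hf σ (P *ᵥ x) (P *ᵥ y) = hf σ x y :=
  preserves_of_hs_mul σ hσ2 P h1 x y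

theorem hf_sum_elim' (y y' : Fin k → F) (z z' : Fin m → F) :
    hf σ (Sum.elim y z) (Sum.elim y' z') = hf σ y y' + hf σ z z' := by
  unfold hf
  rw [Fintype.sum_sum_type]
  simp

end emb

/-- the Landazuri–Seitz bound for `SU_n(q)`: `b(n+2) = (q-1) q^n + b(n)`, `b(0) = b(1) = 0`;
`b(n) = (q^n - 1)/(q+1)` for `n` even, `(q^n - q)/(q+1)` for `n` odd -/
def bnd (q : ℕ) : ℕ → ℕ
  | 0 => 0
  | 1 => 0
  | (n + 2) => (q - 1) * q ^ n + bnd q n

@[simp] theorem bnd_zero (q : ℕ) : bnd q 0 = 0 := rfl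
@[simp] theorem bnd_one (q : ℕ) : bnd q 1 = 0 := rfl
theorem bnd_add_two (q n : ℕ) : bnd q (n + 2) = (q - 1) * q ^ n + bnd q n := rfl

end Cfsg.Agent.Lib.Helper43.SUMD
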