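import Mathlib
import Cfsg.Agent.Lib.Helper43.SUMD.Basic

set_option autoImplicit false

namespace Cfsg.Agent.Lib.Helper43.SUMD

theorem bnd_mul_even (q : ℕ) (hq : 1 ≤ q) (n : ℕ) (hn : Even n) : (q + 1) * bnd q n = q ^ n - 1 := by
  obtain ⟨m, rfl⟩ := hn
  induction m with
  | zero => simp
  | succ m ih =>
    have h1 : m + 1 + (m + 1) = (m + m) + 2 := by ring
    rw [h1, bnd_add_two, mul_add, ih]
    obtain ⟨r, rfl⟩ : ∃ r, q = r + 1 := ⟨q - 1, by omega⟩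
    have hpos : 1 ≤ (r + 1) ^ (m + m) := Nat.one_le_pow _ _ (by omega)
    have hpos2 : 1 ≤ (r + 1) ^ (m + m + 2) := Nat.one_le_pow _ _ (by omega)
    zify [hpos, hpos2]
    simp only [Nat.add_sub_cancel]
    push_cast
    ring

theorem bnd_mul_odd (q : ℕ) (hq : 1 ≤ q) (n : ℕ) (hn : Odd n) : (q + 1) * bnd q n = q ^ n - q := by
  obtain ⟨m, rfl⟩ := hn
  induction m with
  | zero => simp
  | succ m ih =>
    have h1 : 2 * (m + 1) + 1 = (2 * m + 1) + 2 := by ring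
    rw [h1, bnd_add_two, mul_add, ih]
    obtain ⟨r, rfl⟩ : ∃ r, q = r + 1 := ⟨q - 1, by omega⟩
    have hpos : (r + 1) ≤ (r + 1) ^ (2 * m + 1) := by
      calc (r + 1) = (r + 1) ^ 1 := (pow_one _).symm
        _ ≤ (r + 1) ^ (2 * m + 1) := Nat.pow_le_pow_right (by omega) (by omega)
    have hpos2 : (r + 1) ≤ (r + 1) ^ (2 * m + 1 + 2) := by
      calc (r + 1) = (r + 1) ^ 1 := (pow_one _).symm
        _ ≤ (r + 1) ^ (2 * m + 1 + 2) := Nat.pow_le_pow_right (by omega) (by omega)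
    zify [hpos, hpos2]
    simp only [Nat.add_sub_cancel]
    push_cast
    ring

theorem bnd_eq_even (q : ℕ) (hq : 1 ≤ q) (n : ℕ) (hn : Even n) : (q ^ n - 1) / (q + 1) = bnd q n := by
  rw [← bnd_mul_even q hq n hn, Nat.mul_div_cancel_left _ (by omega)]

theorem bnd_eq_odd (q : ℕ) (hq : 1 ≤ q) (n : ℕ) (hn : Odd n) : (q ^ n - q) / (q + 1) = bnd q n := by
  rw [← bnd_mul_odd q hq n hn, Nat.mul_div_cancel_left _ (by omega)]

end Cfsg.Agent.Lib.Helper43.SUMD
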