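import Mathlib
import Cfsg.Agent.Lib.Helper43.SUMD.Basic
import Cfsg.Agent.Lib.Helper39.SumdStep1
import Cfsg.Agent.Lib.Helper39.SumdAlpha
import Cfsg.Agent.Lib.Helper52.SumdBase4

/-!
# Project SUMD (helper43): [T-IND] the induction
-/

set_option autoImplicit false

namespace Cfsg.Agent.Lib.Helper43.SUMD

open Matrix Module Cfsg.Agent.S0837 Cfsg.Agent.S0781 Cfsg.Agent.S2644 Cfsg.Agent.Lib.Helper37

namespace Ind

section aux
variable {G H : Type*} [Group G] [Group H] {V : Type*} [AddCommGroup V] [Module ℂ V]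

/-- restriction of `ρ ∘ φ` to an invariant subspace -/
def resRep (ρ : Representation ℂ G V) (φ : H →* G) (U : Submodule ℂ V)
    (hU : ∀ h : H, ∀ u ∈ U, ρ (φ h) u ∈ U) : Representation ℂ H ↥U where
  toFun h := (ρ (φ h)).restrict (hU h)
  map_one' := by
    apply LinearMap.ext
    intro u
    apply Subtype.ext
    simp
  map_mul' a b := by
    apply LinearMap.ext
    intro u
    apply Subtype.ext
    simp [map_mul]

theorem resRep_apply (ρ : Representation ℂ G V) (φ : H →* G) (U : Submodule ℂ V)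
    (hU : ∀ h : H, ∀ u ∈ U, ρ (φ h) u ∈ U) (h : H) (u : ↥U) :
    ((resRep ρ φ U hU h u : ↥U) : V) = ρ (φ h) (u : V) := rfl

end aux

section geom
variable {F : Type*} [Field F] (σ : F →+* F) {n : ℕ}

theorem comm_of_fix (v : Fin n → F) (hv : hf σ v v = 0) (g : ↥(SUg σ n))
    (hg : smat g *ᵥ v = v) (z : ↥(SUg σ n)) (hz : z ∈ Zsub σ v hv) : g * z = z * g := by
  obtain ⟨c, -, hzc⟩ := hz
  apply smat_injective
  rw [smat_mul, smat_mul, hzc, tv_conj σ (smat g) (smat_preserves g), hg]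

variable {V : Type*} [AddCommGroup V] [Module ℂ V]

theorem map_mem_fixedSp_of_fix (v : Fin n → F) (hv : hf σ v v = 0) (g : ↥(SUg σ n))
    (hg : smat g *ᵥ v = v) (ρ : Representation ℂ ↥(SUg σ n) V) {u : V}
    (hu : u ∈ fixedSp ρ (Zsub σ v hv)) : ρ g u ∈ fixedSp ρ (Zsub σ v hv) := by
  intro z hz
  have h1 := comm_of_fix σ v hv g hg z hz
  calc ρ z (ρ g u) = ρ (z * g) u := by rw [map_mul]; rfl
    _ = ρ (g * z) u := by rw [h1]
    _ = ρ g (ρ z u) := by rw [map_mul]; rfl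
    _ = ρ g u := by rw [hu z hz]

/-- a second hyperbolic pair orthogonal to the first, `n ≥ 4` -/
theorem exists_HP_perp [Finite F] (hσ : σ ≠ RingHom.id F) (hσ2 : ∀ a, σ (σ a) = a) (hn : 4 ≤ n)
    {v w : Fin n → F} (h : HP σ v w) :
    ∃ v' w' : Fin n → F, HP σ v' w' ∧ hf σ v' v = 0 ∧ hf σ v' w = 0 ∧ hf σ w' v = 0 ∧
      hf σ w' w = 0 := by
  obtain ⟨e, he0, hev, hew, hee⟩ := exists_isotropic_perp σ hσ hσ2 hn h
  obtain ⟨y, hy⟩ := exists_hf_ne_zero σ hσ2 e he0
  have hy' : hf σ (pr σ v w y) e ≠ 0 := by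
    rw [hf_pr_left σ hσ2 y e hev hew]; exact hy
  obtain ⟨a, b, hab⟩ := exists_partner σ hσ hσ2 e (pr σ v w y) hee hy'
  refine ⟨e, _, hab, hev, hew, ?_, ?_⟩
  · rw [hf_add_left, hf_smul_left, hf_smul_left, hf_pr_u σ h, hev, mul_zero, mul_zero, add_zero]
  · rw [hf_add_left, hf_smul_left, hf_smul_left, hf_pr_v σ hσ2 h, hew, mul_zero, mul_zero,
      add_zero]

end geom

section frame
variable {F : Type*} [Field F] [Fintype F] (σ : F →+* F) {n : ℕ}

theorem finrank_span_HP (hσ2 : ∀ a, σ (σ a) = a) {v w : Fin n → F} (h : HP σ v w) :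
    finrank F ↥(Submodule.span F {v, w}) = 2 := by
  have hli : LinearIndependent F ![v, w] := by
    rw [LinearIndependent.pair_iff]
    intro a b hab
    have h1 : hf σ (a • v + b • w) v = 0 := by rw [hab, hf_zero_left]
    have h2 : hf σ (a • v + b • w) w = 0 := by rw [hab, hf_zero_left]
    rw [hf_add_left, hf_smul_left, hf_smul_left, h.uu, h.vu] at h1
    rw [hf_add_left, hf_smul_left, hf_smul_left, h.vv, h.uv hσ2] at h2
    constructor
    · linear_combination h2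
    · linear_combination h1
  have := finrank_span_eq_card hli
  rw [Fintype.card_fin] at this
  have hset : Set.range ![v, w] = {v, w} := by
    ext x
    simp only [Matrix.range_cons, Matrix.range_empty, Set.union_empty, Set.mem_union,
      Set.mem_singleton_iff, Set.mem_insert_iff]
  rw [hset] at this
  exact this

theorem span_HP_nondeg (hσ2 : ∀ a, σ (σ a) = a) {v w : Fin n → F} (h : HP σ v w) :
    ∀ u ∈ Submodule.span F {v, w}, (∀ x ∈ Submodule.span F {v, w}, hf σ u x = 0) → u = 0 := by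
  intro u hu hperp
  obtain ⟨a, b, rfl⟩ := Submodule.mem_span_pair.mp hu
  have h1 := hperp v (Submodule.subset_span (by simp))
  have h2 := hperp w (Submodule.subset_span (by simp))
  rw [hf_add_left, hf_smul_left, hf_smul_left, h.uu, h.vu] at h1
  rw [hf_add_left, hf_smul_left, hf_smul_left, h.vv, h.uv hσ2] at h2
  have ha : a = 0 := by linear_combination h2
  have hb : b = 0 := by linear_combination h1
  rw [ha, hb, zero_smul, zero_smul, add_zero]

end frame

section step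
variable {F : Type*} [Field F] [Fintype F] (σ : F →+* F) {n k m : ℕ}
variable {V : Type*} [AddCommGroup V] [Module ℂ V] [FiniteDimensional ℂ V]

/-- the inductive step through a frame -/
theorem frame_step (hσ : σ ≠ RingHom.id F) (hσ2 : ∀ a, σ (σ a) = a) (hn : 3 ≤ n) (hm : 2 ≤ m)
    (P : Matrix (Fin n) (Fin k ⊕ Fin m) F) (h1 : hs σ P * P = 1) (h2 : P * hs σ P = 1)
    {z w : Fin n → F} (h : HP σ z w) (yz yw : Fin k → F)
    (hyz : z = P *ᵥ Sum.elim yz (0 : Fin m → F)) (hyw : w = P *ᵥ Sum.elim yw (0 : Fin m → F))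
    (ρ : Representation ℂ ↥(SUg σ n) V) (hnt : fixedSp ρ (Zsub σ z h.uu) ≠ ⊤) (B : ℕ)
    (IH : ∀ (ρ' : Representation ℂ ↥(SUg σ m) ↥(fixedSp ρ (Zsub σ z h.uu))),
      (∃ (z' : Fin m → F) (c : F) (hz : hf σ z' z' = 0) (hc : c + σ c = 0),
        ρ' (tvS σ hσ2 z' c hz hc) ≠ 1) → B ≤ finrank ℂ ↥(fixedSp ρ (Zsub σ z h.uu))) :
    B ≤ finrank ℂ ↥(fixedSp ρ (Zsub σ z h.uu)) := by
  have hfixz : ∀ g : ↥(SUg σ m), smat (embS σ P hσ2 h1 h2 g) *ᵥ z = z := by
    intro g
    have := embS_mulVec_inl σ P hσ2 h1 h2 g yz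
    rw [← hyz] at this
    exact this
  have hU : ∀ g : ↥(SUg σ m), ∀ u ∈ fixedSp ρ (Zsub σ z h.uu),
      ρ (embS σ P hσ2 h1 h2 g) u ∈ fixedSp ρ (Zsub σ z h.uu) := fun g u hu =>
    map_mem_fixedSp_of_fix σ z h.uu _ (hfixz g) ρ hu
  -- an isotropic vector of the complement
  obtain ⟨z', w'', hp⟩ := exists_HP σ hσ hσ2 (n := m) hm
  have hz'0 : z' ≠ 0 := hp.ne_zero
  have hz' : hf σ z' z' = 0 := hp.uu
  have hv'0 : P *ᵥ Sum.elim (0 : Fin k → F) z' ≠ 0 := by
    intro h0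
    have h3 : Sum.elim (0 : Fin k → F) z' = 0 := by
      have := congrArg (fun x => hs σ P *ᵥ x) h0
      simp only [mulVec_mulVec, h1, one_mulVec, mulVec_zero] at this
      exact this
    apply hz'0
    ext j
    exact congrFun h3 (Sum.inr j)
  have hv' : hf σ (P *ᵥ Sum.elim (0 : Fin k → F) z') (P *ᵥ Sum.elim (0 : Fin k → F) z') = 0 := by
    rw [hf_P_mulVec σ P hσ2 h1, hf_sum_elim', hz', hf_zero_left, add_zero]
  have hv'z : hf σ (P *ᵥ Sum.elim (0 : Fin k → F) z') z = 0 := by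
    rw [hyz, hf_P_mulVec σ P hσ2 h1, hf_sum_elim', hf_zero_left, hf_zero_right, add_zero]
  have hv'w : hf σ (P *ᵥ Sum.elim (0 : Fin k → F) z') w = 0 := by
    rw [hyw, hf_P_mulVec σ P hσ2 h1, hf_sum_elim', hf_zero_left, hf_zero_right, add_zero]
  have hal := alpha σ hσ hσ2 hn h _ hv'0 hv' hv'z hv'w ρ hnt
  rw [SetLike.not_le_iff_exists] at hal
  obtain ⟨u, hu, hu'⟩ := hal
  rw [mem_fixedSp] at hu'
  push Not at hu'
  obtain ⟨g, hg, hgu⟩ := hu'
  obtain ⟨c', hc', hgc'⟩ := hg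
  have hgemb : g = embS σ P hσ2 h1 h2 (tvS σ hσ2 z' c' hz' hc') := by
    apply smat_injective
    rw [hgc', embS_tvS]
  refine IH (resRep ρ (embS σ P hσ2 h1 h2) _ hU) ⟨z', c', hz', hc', ?_⟩
  intro h1'
  apply hgu
  have := congrArg (fun f : Module.End ℂ ↥(fixedSp ρ (Zsub σ z h.uu)) =>
    ((f ⟨u, hu⟩ : ↥(fixedSp ρ (Zsub σ z h.uu))) : V)) h1'
  simp only [resRep_apply] at this
  rw [hgemb]
  exact this

end step

end Ind

open Ind in
/-- **[T-IND]** the main theorem: a representation of `SU_n(q)`, `n ≥ 3`, on which some unitary transvection acts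
non-trivially has dimension at least `bnd q n` -/
theorem main_bound.{u} {F : Type*} [Field F] [Fintype F] (σ : F →+* F) {q : ℕ}
    (hF : Fintype.card F = q ^ 2) (hσq : ∀ x, σ x = x ^ q) (hσ : σ ≠ RingHom.id F)
    (hσ2 : ∀ a, σ (σ a) = a) :
    ∀ n : ℕ, 3 ≤ n → ∀ (V : Type u) [AddCommGroup V] [Module ℂ V] [FiniteDimensional ℂ V]
      (ρ : Representation ℂ ↥(SUg σ n) V),
      (∃ (z : Fin n → F) (c : F) (hz : hf σ z z = 0) (hc : c + σ c = 0),
        ρ (tvS σ hσ2 z c hz hc) ≠ 1) → bnd q n ≤ finrank ℂ V := by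
  intro n
  induction n using Nat.strong_induction_on with
  | _ n IH =>
  intro hn V _ _ _ ρ hex
  obtain ⟨z, c, hz, hc, hne⟩ := hex
  have hz0 : z ≠ 0 := by
    rintro rfl
    apply hne
    have : tvS σ hσ2 (0 : Fin n → F) c hz hc = 1 := by
      apply smat_injective
      rw [smat_tvS, smat_one, tv_zero_vec]
    rw [this, map_one]
  obtain ⟨w, h⟩ := exists_HP_of_isotropic σ hσ hσ2 z hz0 hz
  have hnt : fixedSp ρ (Zsub σ z h.uu) ≠ ⊤ := by
    intro htop
    rw [fixedSp_eq_top_iff] at htop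
    exact hne (htop _ (tvS_mem_Zsub σ hσ2 z c hz hc))
  have hstep := step1 σ hF hσq hσ hσ2 hn h ρ hnt
  rcases Nat.lt_or_ge n 5 with h5 | h5
  · have h34 : n = 3 ∨ n = 4 := by omega
    rcases h34 with rfl | rfl
    · -- n = 3
      rw [show (3 : ℕ) = 1 + 2 from rfl, bnd_add_two, bnd_one, add_zero]
      have h0 : (q - 1) * q ^ (3 - 2) = (q - 1) * q ^ 1 := rfl
      rw [h0] at hstep
      omega
    · -- n = 4
      obtain ⟨v', w', h', h1, h2, h3, h4⟩ := exists_HP_perp σ hσ hσ2 (le_refl 4) h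
      have hb := base4 σ hF hσq hσ hσ2 (le_refl 4) h h' h1 h2 h3 h4 ρ hnt
      rw [show (4 : ℕ) = 2 + 2 from rfl, bnd_add_two, show (2 : ℕ) = 0 + 2 from rfl, bnd_add_two,
        bnd_zero, add_zero, pow_zero, mul_one]
      have h0 : (q - 1) * q ^ (4 - 2) = (q - 1) * q ^ (0 + 2) := rfl
      rw [h0] at hstep
      omega
  · -- n ≥ 5
    obtain ⟨m, P, hkm, h1, h2, hWP⟩ :=
      main_frame σ hσ hσ2 (Submodule.span F {z, w}) (span_HP_nondeg σ hσ2 h)
    have hfr : finrank F ↥(Submodule.span F {z, w}) = 2 := finrank_span_HP σ hσ2 h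
    have hm : m + 2 = n := by omega
    -- coordinates of vectors of `W`
    have hcoord : ∀ x ∈ Submodule.span F {z, w}, ∃ y, x = P *ᵥ Sum.elim y (0 : Fin m → F) := by
      intro x hx
      refine ⟨fun i => (hs σ P *ᵥ x) (Sum.inl i), ?_⟩
      have h3 : hs σ P *ᵥ x = Sum.elim (fun i => (hs σ P *ᵥ x) (Sum.inl i)) (0 : Fin m → F) := by
        ext i
        rcases i with i | j
        · rfl
        · exact (hWP x).1 hx j
      rw [← h3, mulVec_mulVec, h2, one_mulVec]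
    obtain ⟨yz, hyz⟩ := hcoord z (Submodule.subset_span (by simp))
    obtain ⟨yw, hyw⟩ := hcoord w (Submodule.subset_span (by simp))
    have hIH := frame_step σ hσ hσ2 hn (by omega) P h1 h2 h yz yw hyz hyw ρ hnt (bnd q m)
      (fun ρ' hρ' => IH m (by omega) (by omega) _ ρ' hρ')
    have h0 : (q - 1) * q ^ (n - 2) = (q - 1) * q ^ m := by
      rw [← hm]; rfl
    rw [h0] at hstep
    have h00 : bnd q n = (q - 1) * q ^ m + bnd q m := by
      rw [← hm, bnd_add_two]
    rw [h00]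
    omega

end Cfsg.Agent.Lib.Helper43.SUMD
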