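import Mathlib
import Cfsg.Agent.Lib.Helper43.SUMD.Ind
import Cfsg.Agent.Lib.Helper43.SUMD.Arith
import Cfsg.Agent.S0780
import Cfsg.Agent.Lib.Helper13.Herm

/-!
# Project SUMD (helper43): [T-FINAL] the bound for `Cfsg.SU n F q`
-/

set_option autoImplicit false

namespace Cfsg.Agent.Lib.Helper43.SUMD

open Matrix Module Cfsg.Agent.S0837 Cfsg.Agent.S0781 Cfsg.Agent.S2644 Cfsg.Agent.Lib.Helper37

namespace Final

/-- a trivial representation on `Fin k → ℂ`, `k ≥ 2`, is not irreducible -/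
theorem not_irreducible_of_trivial {G : Type*} [Group G] {k : ℕ} (hk : 2 ≤ k)
    (ρ : Representation ℂ G (Fin k → ℂ)) (htriv : ∀ g, ρ g = 1) : ¬ ρ.IsIrreducible := by
  intro hirr
  let v₀ : Fin k → ℂ := Pi.single ⟨0, by omega⟩ 1
  let U : Subrepresentation ρ :=
    { toSubmodule := Submodule.span ℂ {v₀}
      apply_mem_toSubmodule := by
        intro g v hv
        rw [htriv g]; exact hv }
  rcases hirr.eq_bot_or_eq_top U with h | h
  · have hmem : v₀ ∈ U.toSubmodule := Submodule.subset_span rfl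
    rw [h] at hmem
    have : v₀ = 0 := hmem
    have h1 := congrFun this ⟨0, by omega⟩
    simp [v₀] at h1
  · have hmem : (Pi.single ⟨1, by omega⟩ 1 : Fin k → ℂ) ∈ U.toSubmodule := by
      rw [h]; trivial
    obtain ⟨c, hc⟩ := Submodule.mem_span_singleton.mp hmem
    have h1 := congrFun hc ⟨1, by omega⟩
    simp [v₀, Fin.ext_iff] at h1

variable {F : Type*} [Field F]

/-- the map `SUg σ n → Cfsg.SU n F q` -/
def toSU (σ : F →+* F) {q : ℕ} (hσq : ∀ x, σ x = x ^ q) (n : ℕ) :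
    ↥(SUg σ n) →* ↥(Cfsg.SU n F q) where
  toFun g := ⟨⟨smat g, smat_det g⟩, fun x y => by
    rw [hermForm_eq_hf σ hσq, hermForm_eq_hf σ hσq]
    exact smat_preserves g x y⟩
  map_one' := by
    apply Subtype.ext
    apply Subtype.ext
    exact smat_one (σ := σ)
  map_mul' a b := by
    apply Subtype.ext
    apply Subtype.ext
    exact smat_mul a b

theorem toSU_surjective (σ : F →+* F) {q : ℕ} (hσq : ∀ x, σ x = x ^ q) (n : ℕ) :
    Function.Surjective (toSU σ hσq n) := by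
  intro A
  have hdet : ((A : Matrix.SpecialLinearGroup (Fin n) F) : Matrix (Fin n) (Fin n) F).det = 1 :=
    (A : Matrix.SpecialLinearGroup (Fin n) F).2
  have hpres : ∀ x y, hf σ (((A : Matrix.SpecialLinearGroup (Fin n) F) :
      Matrix (Fin n) (Fin n) F) *ᵥ x) (((A : Matrix.SpecialLinearGroup (Fin n) F) :
      Matrix (Fin n) (Fin n) F) *ᵥ y) = hf σ x y := by
    intro x y
    rw [← hermForm_eq_hf σ hσq, ← hermForm_eq_hf σ hσq]
    exact A.2 x y
  refine ⟨mkS _ hdet hpres, ?_⟩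
  apply Subtype.ext
  apply Subtype.ext
  rfl

/-- **[T-FINAL]** the Landazuri–Seitz bound for `Cfsg.SU n F q` -/
theorem su_min_degree [Fintype F] {q : ℕ} (hF : Fintype.card F = q ^ 2) (n : ℕ) (hn : 3 ≤ n)
    (h3 : n = 3 → 3 ≤ q) (k : ℕ) (ρ : Representation ℂ (Cfsg.SU n F q) (Fin k → ℂ))
    (hirr : ρ.IsIrreducible) (hk : 2 ≤ k) : bnd q n ≤ k := by
  obtain ⟨σ, hσq, hσ2⟩ := Cfsg.Agent.Lib.Helper13.exists_frob hF
  have hne := frob_ne_id σ hF hσq
  have hcond : n = 3 → ∃ l : F, l ≠ 0 ∧ l * σ l ≠ 1 := fun h => 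
    Cfsg.Agent.S0780.exists_norm_ne_one hF (h3 h) σ hσq
  let ρ' : Representation ℂ ↥(SUg σ n) (Fin k → ℂ) := ρ.comp (toSU σ hσq n)
  by_cases hex : ∃ (z : Fin n → F) (c : F) (hz : hf σ z z = 0) (hc : c + σ c = 0),
      ρ' (tvS σ hσ2 z c hz hc) ≠ 1
  · have := main_bound σ hF hσq hne hσ2 n hn (Fin k → ℂ) ρ' hex
    rwa [Module.finrank_fin_fun] at this
  · exfalso
    push Not at hex
    apply not_irreducible_of_trivial hk ρ _ hirr
    intro A
    obtain ⟨g, rfl⟩ := toSU_surjective σ hσq n A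
    show ρ' g = 1
    -- g is a product of transvections
    have hgT : (g : GL (Fin n) F) ∈ TG σ n :=
      su_gen σ hne hσ2 n (by omega) hcond (g : GL (Fin n) F) g.2.1 g.2.2
    -- the kernel of ρ' contains all transvections
    have hle : TG σ n ≤ ((MonoidHom.ker ρ').map (SUg σ n).subtype) := by
      unfold TG
      rw [Subgroup.closure_le]
      rintro t ⟨z, c, hz, hc, ht⟩
      refine ⟨tvS σ hσ2 z c hz hc, hex z c hz hc, ?_⟩
      apply Units.ext
      rw [ht]
      rfl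
    obtain ⟨g', hg', hgg'⟩ := hle hgT
    have : g' = g := Subtype.ext hgg'
    rw [← this]
    exact hg'

end Final

end Cfsg.Agent.Lib.Helper43.SUMD
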